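import Cfsg.Agent.H34.Uni.Main
import Cfsg.Agent.H51.Herm
import Mathlib.Data.ZMod.Basic
import Mathlib.RingTheory.IntegralDomain
import Mathlib.LinearAlgebra.Matrix.Permutation

/-!
Scalar elements of the special unitary group are commutators of monomial elements for a suitable
congruent form (helper85).
-/

set_option autoImplicit false
set_option linter.style.haveILetI false
set_option linter.unusedSectionVars false

namespace H85.Uni

open Matrix hiding gram
open H31.Com.Uni

section Mono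

variable {ι K : Type*} [Fintype ι] [DecidableEq ι] [Field K]

/-- A monomial matrix. -/
def mono (π : Equiv.Perm ι) (ε : ι → K) : Matrix ι ι K :=
  Matrix.of fun i j => if j = π i then ε i else 0

theorem mono_mul (π π' : Equiv.Perm ι) (ε ε' : ι → K) :
    mono π ε * mono π' ε' = mono (π' * π) (fun i => ε i * ε' (π i)) := by
  ext i j
  rw [Matrix.mul_apply, Finset.sum_eq_single (π i) (fun k _ hk => by simp [mono, hk]) (by simp)]
  simp only [mono, Matrix.of_apply, Equiv.Perm.mul_apply]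
  split_ifs <;> simp_all

theorem mono_transpose (π : Equiv.Perm ι) (ε : ι → K) :
    (mono π ε)ᵀ = mono π⁻¹ (fun i => ε (π⁻¹ i)) := by
  ext i j
  simp only [Matrix.transpose_apply, mono, Matrix.of_apply]
  by_cases h : i = π j
  · subst h; simp
  · rw [if_neg h, if_neg fun h' => h (by rw [h']; simp)]

theorem mono_map (σ : K →+* K) (π : Equiv.Perm ι) (ε : ι → K) :
    (mono π ε).map σ = mono π (fun i => σ (ε i)) := by
  ext i j
  by_cases h : j = π i <;> simp [mono, h]

theorem mono_smul (c : K) (π : Equiv.Perm ι) (ε : ι → K) :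
    c • mono π ε = mono π (fun i => c * ε i) := by
  ext i j
  by_cases h : j = π i <;> simp [mono, h]

theorem mono_one : mono (1 : Equiv.Perm ι) (fun _ => (1 : K)) = 1 := by
  ext i j
  simp [mono, Matrix.one_apply, eq_comm]

theorem det_mono (π : Equiv.Perm ι) (ε : ι → K) :
    (mono π ε).det = ((Equiv.Perm.sign π : ℤ) : K) * ∏ i, ε i := by
  have h : mono π ε = Matrix.diagonal ε * π.permMatrix K := by
    ext i j
    by_cases h : j = π i <;>
      simp [mono, Matrix.diagonal_mul, Equiv.Perm.permMatrix, PEquiv.toMatrix, h, eq_comm]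
  rw [h, Matrix.det_mul, Matrix.det_diagonal, Matrix.det_permutation, mul_comm]

/-- Monomial matrices preserving the form of an involutive permutation. -/
theorem mono_iso (σ : K →+* K) {π τ : Equiv.Perm ι} (hτ : ∀ i, τ (π i) = π (τ i)) {ε : ι → K}
    (hε : ∀ i, ε i * σ (ε (τ i)) = 1) :
    (mono π ε)ᵀ * mono τ (fun _ => 1) * (mono π ε).map σ = mono τ (fun _ => (1 : K)) := by
  rw [mono_transpose, mono_map, mono_mul, mono_mul]
  have e : π * (τ * π⁻¹) = τ := by
    refine Equiv.ext fun i => ?_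
    simp only [Equiv.Perm.mul_apply]
    rw [← hτ]
    simp
  rw [e]
  congr 1
  funext i
  simp only [Equiv.Perm.mul_apply, mul_one]
  exact hε _

end Mono

/-- The scalar for the diagonal factor. -/
theorem exists_lambda {K : Type*} [Field K] [Fintype K] {σ : K →+* K} {q : ℕ}
    (hF : Fintype.card K = q ^ 2) (hσ : ∀ x, σ x = x ^ q) {n : ℕ} (hn : 0 < n) {w : K}
    (hwn : w ^ n = 1) (hwq : w ^ (q + 1) = 1) :
    ∃ (lam : K) (k : ℕ), n ∣ k + k ∧ lam * σ lam = w ^ k ∧ lam ^ n * w ^ (n * (n - 1) / 2) = 1 := by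
  have hW2 : w ^ (n * (n - 1) / 2) * w ^ (n * (n - 1) / 2) = 1 := by
    have h2 : n * (n - 1) / 2 + n * (n - 1) / 2 = n * (n - 1) := by
      have := Nat.div_mul_cancel (Nat.even_mul_pred_self n).two_dvd
      omega
    rw [← pow_add, h2, pow_mul, hwn, one_pow]
  rcases mul_self_eq_one_iff.1 hW2 with hW | hW
  · exact ⟨1, 0, dvd_zero n, by rw [map_one, one_mul, pow_zero], by rw [one_pow, one_mul, hW]⟩
  by_cases h2 : (-1 : K) = 1
  · exact ⟨1, 0, dvd_zero n, by rw [map_one, one_mul, pow_zero], by rw [one_pow, one_mul, hW, h2]⟩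
  rcases Nat.even_or_odd n with he | ho
  swap
  · refine ⟨-1, 0, dvd_zero n, ?_, ?_⟩
    · rw [map_neg, map_one, pow_zero]; ring
    · rw [ho.neg_one_pow, hW]; ring
  obtain ⟨m, hm⟩ := he.two_dvd
  have hm1 : 1 ≤ m := by omega
  have hwm : w ^ m = -1 := by
    have e : n * (n - 1) / 2 = m * (n - 1) := by
      rw [hm, mul_assoc, Nat.mul_div_cancel_left _ (by norm_num)]
    rw [e, pow_mul] at hW
    have ho : Odd (n - 1) := ⟨m - 1, by omega⟩
    rcases mul_self_eq_one_iff.1 (show w ^ m * w ^ m = 1 by rw [← pow_add, ← two_mul, ← hm, hwn])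
      with h | h
    · rw [h, one_pow] at hW; exact absurd hW.symm h2
    · exact h
  obtain ⟨κ, o, ho, hmo⟩ := Nat.exists_eq_two_pow_mul_odd (n := m) (by omega)
  haveI : Fact (Nat.Prime 2) := ⟨Nat.prime_two⟩
  have hwo : orderOf (w ^ o) = 2 ^ (κ + 1) := by
    refine orderOf_eq_prime_pow ?_ ?_
    · rw [← pow_mul, mul_comm, ← hmo, hwm]; exact h2
    · rw [← pow_mul, pow_succ, ← mul_assoc, mul_comm o, ← hmo, pow_mul, hwm, neg_one_sq]
  have hdq : 2 ^ (κ + 1) ∣ q + 1 := hwo ▸ orderOf_dvd_of_pow_eq_one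
    (by rw [← pow_mul, mul_comm, pow_mul, hwq, one_pow])
  have hq1 : 1 < q := H51.one_lt_q hF
  have hqe : 2 ∣ q - 1 := by
    have : 2 ∣ q + 1 := (dvd_pow_self 2 (Nat.succ_ne_zero κ)).trans hdq
    omega
  have hdK : 2 ^ (κ + 2) ∣ Fintype.card K - 1 := by
    rw [hF, show q ^ 2 - 1 = (q + 1) * (q - 1) by
      rw [← Nat.sq_sub_sq, one_pow], show κ + 2 = (κ + 1) + 1 by omega, pow_succ]
    exact Nat.mul_dvd_mul hdq hqe
  classical
  obtain ⟨g, hg⟩ := IsCyclic.exists_ofOrder_eq_natCard (α := Kˣ)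
  rw [Nat.card_units, Nat.card_eq_fintype_card] at hg
  set N := Fintype.card K - 1 with hN
  have hN0 : 0 < N := by have := Fintype.one_lt_card (α := K); omega
  set μ := g ^ (N / 2 ^ (κ + 2)) with hμ
  have hμo : orderOf μ = 2 ^ (κ + 2) := by
    rw [hμ, orderOf_pow' g (Nat.div_pos (Nat.le_of_dvd hN0 hdK) (by positivity)).ne', hg,
      Nat.gcd_eq_right (Nat.div_dvd_of_dvd hdK), Nat.div_div_self hdK hN0.ne']
  have hμh : (μ : K) ^ (2 ^ (κ + 1)) = -1 := by
    rcases mul_self_eq_one_iff.1 (show (μ : K) ^ (2 ^ (κ + 1)) * (μ : K) ^ (2 ^ (κ + 1)) = 1 by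
      rw [← pow_add, ← two_mul, ← pow_succ', ← hμo, ← Units.val_pow_eq_pow_val, pow_orderOf_eq_one,
        Units.val_one]) with h | h
    · exfalso
      have h1 : μ ^ (2 ^ (κ + 1)) = 1 := Units.ext (by rw [Units.val_pow_eq_pow_val, h, Units.val_one])
      have h3 := Nat.le_of_dvd (by positivity) (hμo ▸ orderOf_dvd_of_pow_eq_one h1)
      have : 2 ^ (κ + 1) < 2 ^ (κ + 2) := Nat.pow_lt_pow_right (by norm_num) (by omega)
      omega
    · exact h
  have hμn : (μ : K) ^ n = -1 := by
    rw [show n = 2 ^ (κ + 1) * o by rw [hm, hmo, pow_succ]; ring, pow_mul, hμh, ho.neg_one_pow]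
  obtain ⟨r, hr⟩ := hdq
  have hμq : (μ : K) * σ μ = (-1 : K) ^ r := by
    rw [hσ, ← pow_succ', hr, pow_mul, hμh]
  have hdet : (μ : K) ^ n * w ^ (n * (n - 1) / 2) = 1 := by rw [hμn, hW]; ring
  rcases Nat.even_or_odd r with hev | hod
  · exact ⟨μ, 0, dvd_zero n, by rw [hμq, hev.neg_one_pow, pow_zero], hdet⟩
  · exact ⟨μ, m, ⟨1, by omega⟩, by rw [hμq, hod.neg_one_pow, hwm], hdet⟩

/-- Scalar elements are commutators. -/
theorem central_comm {K : Type*} [Field K] [Fintype K] {σ : K →+* K} [Invol σ] {q : ℕ}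
    (hF : Fintype.card K = q ^ 2) (hσ : ∀ x, σ x = x ^ q) {m e : ℕ} (hpos : 0 < 2 * m + e) :
    H34.Uni.CentralComm σ m e := by
  classical
  intro g z hz
  set n := Fintype.card (Idx m e) with hn
  have hn' : n = 2 * m + e := by rw [hn]; simp; omega
  have hn0 : 0 < n := by omega
  haveI : NeZero n := ⟨hn0.ne'⟩
  have hz0 : z ^ n = 1 := by
    have h1 := g.2.1
    rwa [hz, Matrix.det_smul, Matrix.det_one, mul_one] at h1
  have hgram : IsUnit (gram m e K : Matrix (Idx m e) (Idx m e) K) := by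
    refine isUnit_iff_exists.2 ⟨gram m e K, ?_, ?_⟩ <;>
      simp [gram, Matrix.fromBlocks_multiply, Matrix.fromBlocks_one]
  have hzσ : z * σ z = 1 := by
    have h1 := g.2.2
    rw [hz, Matrix.transpose_smul, Matrix.transpose_one, Matrix.map_smul' σ z (1 : Matrix _ _ K) (map_mul σ),
      Matrix.map_one σ (map_zero σ) (map_one σ), Matrix.smul_mul, Matrix.one_mul, Matrix.mul_smul,
      Matrix.mul_one, smul_smul] at h1
    have hne : (gram m e K : Matrix (Idx m e) (Idx m e) K) ≠ 0 := fun h0 => by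
      haveI : Nonempty (Idx m e) := Fintype.card_pos_iff.1 hn0
      exact not_isUnit_zero (h0 ▸ hgram)
    have h2 : (σ z * z - 1) • (gram m e K : Matrix (Idx m e) (Idx m e) K) = 0 := by
      rw [sub_smul, h1, one_smul, sub_self]
    rw [mul_comm]
    exact sub_eq_zero.1 ((smul_eq_zero.1 h2).resolve_right hne)
  have hz1 : z ≠ 0 := fun h0 => by rw [h0, zero_mul] at hzσ; exact zero_ne_one hzσ
  set w := z⁻¹ with hw
  have hσw : σ w = z := by rw [hw, map_inv₀]; exact inv_eq_of_mul_eq_one_left hzσ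
  have hwn : w ^ n = 1 := by rw [hw, inv_pow, hz0, inv_one]
  have hwq : w ^ (q + 1) = 1 := by
    rw [pow_succ, ← hσ, hσw, hw, mul_inv_cancel₀ hz1]
  obtain ⟨lam, k, hk, hlam, hdet⟩ := exists_lambda hF hσ hn0 hwn hwq
  let E : Idx m e ≃ ZMod n := Fintype.equivOfCardEq (by rw [ZMod.card])
  have hw_add : ∀ (x : ZMod n) (j : ℕ), w ^ (x + (j : ZMod n)).val = w ^ x.val * w ^ j := by
    intro x j
    rw [← pow_add, pow_eq_pow_mod (x + (j : ZMod n)).val hwn, pow_eq_pow_mod (x.val + j) hwn,
      ← ZMod.natCast_eq_natCast_iff' _ _ _ |>.1 (show (((x + (j : ZMod n)).val : ℕ) : ZMod n) =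
        ((x.val + j : ℕ) : ZMod n) by push_cast [ZMod.natCast_zmod_val]; ring)]
  set τ : Equiv.Perm (Idx m e) := E.trans ((Equiv.addRight (k : ZMod n)).trans E.symm) with hτ
  set π : Equiv.Perm (Idx m e) := E.trans ((Equiv.addRight (1 : ZMod n)).trans E.symm) with hπ
  have hEτ : ∀ i, E (τ i) = E i + (k : ZMod n) := fun i => by simp [hτ]
  have hEπ : ∀ i, E (π i) = E i + (1 : ZMod n) := fun i => by simp [hπ]
  have hττ : ∀ i, τ (τ i) = i := fun i => E.injective (by
    rw [hEτ, hEτ, add_assoc, ← Nat.cast_add, (ZMod.natCast_eq_zero_iff (k + k) n).2 hk, add_zero])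
  have hτπ : ∀ i, τ (π i) = π (τ i) := fun i => E.injective (by rw [hEτ, hEπ, hEπ, hEτ]; ring)
  set d : Idx m e → K := fun i => lam * w ^ (E i).val with hd
  have hdπ : ∀ i, d i = z * d (π i) := fun i => by
    have e1 := hw_add (E i) 1
    rw [Nat.cast_one, pow_one] at e1
    have hzw : z * w = 1 := by rw [hw]; exact mul_inv_cancel₀ hz1
    simp only [hd, hEπ, e1]
    linear_combination -(lam * w ^ (E i).val) * hzw
  have hdτ : ∀ i, d i * σ (d (τ i)) = 1 := fun i => by
    simp only [hd, hEτ, hw_add, map_mul, map_pow, hσw]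
    have e1 : w ^ (E i).val * z ^ (E i).val = 1 := by
      rw [← mul_pow, hw, inv_mul_cancel₀ hz1, one_pow]
    have e2 : w ^ k * z ^ k = 1 := by rw [← mul_pow, hw, inv_mul_cancel₀ hz1, one_pow]
    linear_combination (w ^ (E i).val * z ^ (E i).val * z ^ k) * hlam + (w ^ (E i).val * z ^ (E i).val) * e2 + e1
  have hdD : (mono (1 : Equiv.Perm (Idx m e)) d).det = 1 := by
    rw [det_mono, Equiv.Perm.sign_one]
    simp only [hd, Finset.prod_mul_distrib, Finset.prod_const, Finset.card_univ, ← hn,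
      Finset.prod_pow_eq_pow_sum]
    have hs : ∑ i : Idx m e, (E i).val = n * (n - 1) / 2 := by
      rw [Equiv.sum_comp E fun x => x.val, ← Finset.sum_range_id]
      exact Finset.sum_nbij' (fun x => x.val) (fun j => (j : ZMod n))
        (fun x _ => Finset.mem_range.2 (ZMod.val_lt x)) (fun j _ => Finset.mem_univ _)
        (fun x _ => ZMod.natCast_zmod_val x) (fun j hj => ZMod.val_cast_of_lt (Finset.mem_range.1 hj))
        (fun x _ => rfl)
    rw [hs]
    simpa using hdet
  -- the weights of the cycle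
  obtain ⟨ε, hετ, hεdet⟩ : ∃ ε : Idx m e → K, (∀ i, ε i * σ (ε (τ i)) = 1) ∧
      ((Equiv.Perm.sign π : ℤ) : K) * ∏ i, ε i = 1 := by
    rcases Int.units_eq_one_or (Equiv.Perm.sign π) with hs | hs
    · exact ⟨fun _ => 1, fun i => by simp, by simp [hs]⟩
    obtain ⟨i0⟩ : Nonempty (Idx m e) := Fintype.card_pos_iff.1 hn0
    by_cases hfix : τ i0 = i0
    · refine ⟨Function.update (fun _ => 1) i0 (-1), fun i => ?_, ?_⟩
      · by_cases hi : i = i0
        · subst hi; simp [hfix]
        · have : τ i ≠ i0 := fun h' => hi (by rw [← hττ i, h', hfix])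
          simp [hi, this]
      · simp [hs, Finset.prod_update_of_mem]
    · obtain ⟨t, ht0, ht⟩ := H34.Uni.exists_skew (σ := σ)
      have hσt : σ t ≠ 0 := (map_ne_zero σ).2 ht0
      refine ⟨fun i => if i = i0 then t else if i = τ i0 then (σ t)⁻¹ else 1, fun i => ?_, ?_⟩
      · by_cases hi : i = i0
        · subst hi
          simp [hfix, Invol.invol, ht0]
        by_cases hi' : i = τ i0
        · subst hi'
          simp [hττ, hfix, hσt]
        · have h1 : τ i ≠ i0 := fun h' => hi' (by rw [← h', hττ])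
          have h2 : τ i ≠ τ i0 := fun h' => hi (τ.injective h')
          simp [hi, hi', h1, h2]
      · rw [hs, ← Finset.prod_subset (Finset.subset_univ ({i0, τ i0} : Finset (Idx m e)))
          (fun i _ hi => by
            simp only [Finset.mem_insert, Finset.mem_singleton, not_or] at hi
            simp [hi.1, hi.2]), Finset.prod_pair (Ne.symm hfix)]
        simp only [if_pos, hfix, if_false, Units.val_neg, Units.val_one, Int.cast_neg, Int.cast_one]
        field_simp
        linear_combination -ht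
  -- transfer to the hyperbolic form
  set J : Matrix (Idx m e) (Idx m e) K := mono τ (fun _ => 1) with hJ
  have hJsymm : Jᵀ = J := by
    rw [hJ, mono_transpose]
    congr 1
    exact Equiv.ext fun i => τ.injective (by rw [Equiv.Perm.inv_def, Equiv.apply_symm_apply, hττ])
  have hadj : ∀ M : Matrix (Idx m e) (Idx m e) K, H51.adj hF M = (M.map σ)ᵀ := fun M => by
    ext i j
    simp [H51.adj, hσ]
  have hJu : IsUnit J := by
    rw [Matrix.isUnit_iff_isUnit_det, hJ, det_mono]
    rcases Int.units_eq_one_or (Equiv.Perm.sign τ) with hs | hs <;> simp [hs]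
  have hgs : (gram m e K : Matrix (Idx m e) (Idx m e) K)ᵀ = gram m e K := by
    simp [gram, Matrix.fromBlocks_transpose]
  have hgm : (gram m e K : Matrix (Idx m e) (Idx m e) K).map σ = gram m e K := by
    ext i j
    rcases i with (i | i) | i <;> rcases j with (j | j) | j <;>
      simp [gram, Matrix.one_apply, apply_ite σ]
  obtain ⟨c, hcu, hc⟩ := H51.exists_adj_mul_self hF (s := gram m e K) (by rw [hadj, hgm, hgs]) hgram
  obtain ⟨c', hc'u, hc'⟩ := H51.exists_adj_mul_self hF (s := J)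
    (by rw [hadj, show J.map σ = J by rw [hJ, mono_map]; simp, hJsymm]) hJu
  rw [hadj] at hc hc'
  have hc1 : cᵀ * c.map σ = gram m e K := by
    have := congrArg Matrix.transpose hc
    rwa [Matrix.transpose_mul, Matrix.transpose_transpose, hgs] at this
  have hc1' : c'ᵀ * c'.map σ = J := by
    have := congrArg Matrix.transpose hc'
    rwa [Matrix.transpose_mul, Matrix.transpose_transpose, hJsymm] at this
  set T : GL (Idx m e) K := hcu.unit⁻¹ * hc'u.unit with hT
  have hTg : (T.val)ᵀ * gram m e K * T.val.map σ = J := by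
    have e1 : c * T.val = c' := by
      rw [hT, Units.val_mul, ← mul_assoc, hcu.mul_val_inv, one_mul, hc'u.unit_spec]
    rw [← hc1', ← e1, Matrix.transpose_mul, Matrix.map_mul, ← hc1]
    simp only [Matrix.mul_assoc]
  have hmem : ∀ X : GL (Idx m e) K, X.val.det = 1 → X.valᵀ * J * X.val.map σ = J →
      T * X * T⁻¹ ∈ Model σ m e := by
    intro X hdX hX
    refine ⟨?_, ?_⟩
    · rw [Units.val_mul, Units.val_mul, Matrix.det_mul, Matrix.det_mul, hdX, mul_one, ← Matrix.det_mul,
        ← Units.val_mul, mul_inv_cancel, Units.val_one, Matrix.det_one]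
    · have e1 : ((T⁻¹ : GL (Idx m e) K).val)ᵀ * J * (T⁻¹ : GL (Idx m e) K).val.map σ = gram m e K := by
        rw [← hTg]
        calc ((T⁻¹ : GL (Idx m e) K).val)ᵀ * (T.valᵀ * gram m e K * T.val.map σ) *
              (T⁻¹ : GL (Idx m e) K).val.map σ
            = (T.val * (T⁻¹ : GL (Idx m e) K).val)ᵀ * gram m e K *
              (T.val.map σ * (T⁻¹ : GL (Idx m e) K).val.map σ) := by
              simp only [Matrix.transpose_mul, Matrix.mul_assoc]
          _ = gram m e K := by
              rw [← Matrix.map_mul, ← Units.val_mul, mul_inv_cancel, Units.val_one,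
                Matrix.map_one σ (map_zero σ) (map_one σ), Matrix.transpose_one, Matrix.one_mul,
                Matrix.mul_one]
      rw [Units.val_mul, Units.val_mul, Matrix.map_mul, Matrix.map_mul, Matrix.transpose_mul,
        Matrix.transpose_mul]
      calc (T⁻¹ : GL (Idx m e) K).valᵀ * (X.valᵀ * T.valᵀ) * gram m e K *
            (T.val.map σ * X.val.map σ * (T⁻¹ : GL (Idx m e) K).val.map σ)
          = (T⁻¹ : GL (Idx m e) K).valᵀ * (X.valᵀ * (T.valᵀ * gram m e K * T.val.map σ) * X.val.map σ) *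
            (T⁻¹ : GL (Idx m e) K).val.map σ := by simp only [Matrix.mul_assoc]
        _ = gram m e K := by rw [hTg, hX, e1]
  let A : GL (Idx m e) K := Matrix.GeneralLinearGroup.mkOfDetNeZero (mono 1 d) (by rw [hdD]; exact one_ne_zero)
  let B : GL (Idx m e) K := Matrix.GeneralLinearGroup.mkOfDetNeZero (mono π ε)
    (by rw [det_mono, hεdet]; exact one_ne_zero)
  refine ⟨⟨T * A * T⁻¹, hmem A hdD (mono_iso σ (by simp) hdτ)⟩,
    ⟨T * B * T⁻¹, hmem B (by show (mono π ε).det = 1; rw [det_mono, hεdet]) (mono_iso σ hτπ hετ)⟩, ?_⟩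
  refine Subtype.ext ?_
  show g.1 = T * A * T⁻¹ * (T * B * T⁻¹) * (T * A * T⁻¹)⁻¹ * (T * B * T⁻¹)⁻¹
  have hAB : A * B = g.1 * (B * A) := by
    refine Units.ext ?_
    show mono 1 d * mono π ε = g.1.val * (mono π ε * mono 1 d)
    rw [hz, Matrix.smul_mul, Matrix.one_mul, mono_mul, mono_mul, mono_smul]
    simp only [mul_one, one_mul, Equiv.Perm.coe_one, id_eq]
    congr 1
    funext i
    rw [hdπ i]; ring
  have hcomm : T * g.1 = g.1 * T := Units.ext (by
    simp [Units.val_mul, hz])
  calc g.1 = g.1 * T * T⁻¹ := by rw [mul_inv_cancel_right]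
    _ = T * g.1 * T⁻¹ := by rw [hcomm]
    _ = T * (A * B * A⁻¹ * B⁻¹) * T⁻¹ := by rw [hAB]; group
    _ = _ := by group

end H85.Uni
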